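import Groth.Agent.BootLib.DepthLoc
import Groth.Agent.RegLocal.Completion
import Groth.Prelude.Def_Formal2
import Mathlib.RingTheory.AdicCompletion.AsTensorProduct

/-!
# Depth off `V(I)` from depth on completions
-/

set_option autoImplicit false
set_option linter.style.haveILetI false
set_option backward.isDefEq.respectTransparency false

universe u

open IsLocalRing TensorProduct

noncomputable section

namespace Groth.Agent.BootLib

theorem isBaseChange_completion {B : Type u} [CommRing B] [IsNoetherianRing B] (J : Ideal B) (M : Type u)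
    [AddCommGroup M] [Module B M] [Module.Finite B M] :
    ∃ g : M →ₗ[B] AdicCompletion J M, IsBaseChange (AdicCompletion J B) g :=
  let e := AdicCompletion.ofTensorProductEquivOfFiniteNoetherian J M
  ⟨(e.restrictScalars B).toLinearMap ∘ₗ TensorProduct.mk B (AdicCompletion J B) M 1,
    IsBaseChange.of_equiv e fun _ => rfl⟩

/-- If the completions along `T` have depth `> s` at the distinguished primes, so do the primes `p ∉ V(I)` all of
whose specialisations in `V(I)` below a point of `T` lie in `T`. -/
theorem depth_gt_of_completion {A : Type u} [CommRing A] [IsNoetherianRing A] (I : Ideal A) (M : Type u)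
    [AddCommGroup M] [Module A M] [Module.Finite A M] (T : Set (PrimeSpectrum A)) (s : ℕ)
    (h6 : ∀ q : PrimeSpectrum A, q ∈ T → ∀ p' : PrimeSpectrum (AdicCompletion (I.map (algebraMap A (Localization.AtPrime q.asIdeal))) (Localization.AtPrime q.asIdeal)), ¬ (I.map (algebraMap A (AdicCompletion (I.map (algebraMap A (Localization.AtPrime q.asIdeal))) (Localization.AtPrime q.asIdeal)))) ≤ p'.asIdeal → (∀ q' : PrimeSpectrum (AdicCompletion (I.map (algebraMap A (Localization.AtPrime q.asIdeal))) (Localization.AtPrime q.asIdeal)), p' ≤ q' → (I.map (algebraMap A (AdicCompletion (I.map (algebraMap A (Localization.AtPrime q.asIdeal))) (Localization.AtPrime q.asIdeal)))) ≤ q'.asIdeal → q'.asIdeal.IsMaximal) → (s : ℕ∞) < LocCoh.depth (Localization.AtPrime p'.asIdeal) (LocalizedModule p'.asIdeal.primeCompl (AdicCompletion (I.map (algebraMap A (Localization.AtPrime q.asIdeal))) (LocalizedModule q.asIdeal.primeCompl M))))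
    (p q : PrimeSpectrum A) (hpq : p ≤ q) (hp : ¬ I ≤ p.asIdeal) (hIq : I ≤ q.asIdeal)
    (hr : ∀ r : PrimeSpectrum A, p ≤ r → r ≤ q → I ≤ r.asIdeal → r ∈ T) :
    (s : ℕ∞) < LocCoh.depth (Localization.AtPrime p.asIdeal) (LocalizedModule p.asIdeal.primeCompl M) := by
  have hsup : p.asIdeal ⊔ I ≤ q.asIdeal := sup_le hpq hIq
  obtain ⟨q0, hq0, hq0q⟩ := Ideal.exists_minimalPrimes_le hsup
  haveI : q0.IsPrime := hq0.1.1
  have hpq0 : p.asIdeal ≤ q0 := le_sup_left.trans hq0.1.2
  have hIq0 : I ≤ q0 := le_sup_right.trans hq0.1.2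
  have H := h6 ⟨q0, inferInstance⟩ (hr ⟨q0, inferInstance⟩ hpq0 hq0q hIq0)
  let B := Localization.AtPrime q0
  let J := I.map (algebraMap A B)
  haveI : IsNoetherianRing B := IsLocalization.isNoetherianRing q0.primeCompl _ inferInstance
  have hdisj : Disjoint (q0.primeCompl : Set A) (p.asIdeal : Set A) :=
    Set.disjoint_left.2 fun a ha hap => ha (hpq0 hap)
  let pB := p.asIdeal.map (algebraMap A B)
  haveI hpB : pB.IsPrime := IsLocalization.isPrime_of_isPrime_disjoint q0.primeCompl B p.asIdeal inferInstance hdisj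
  have hcomap : pB.comap (algebraMap A B) = p.asIdeal := IsLocalization.comap_map_of_isPrime_disjoint q0.primeCompl B inferInstance hdisj
  haveI : pB.LiesOver p.asIdeal := ⟨hcomap.symm⟩
  have hJ : J ≠ ⊤ := fun h => (maximalIdeal.isMaximal B).ne_top (top_le_iff.1 (h.ge.trans (by
    rw [Ideal.map_le_iff_le_comap]
    exact hIq0.trans_eq (IsLocalization.AtPrime.under_maximalIdeal B q0).symm)))
  let C := AdicCompletion J B
  haveI := RegLocal.isLocalRing_completion B J hJ
  haveI : Module.FaithfullyFlat B C := RegLocal.faithfullyFlat_completion B J hJ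
  haveI : IsNoetherianRing C := RegLocal.isNoetherianRing_adicCompletion J J.fg_of_isNoetherianRing
  obtain ⟨P0, hP0⟩ := PrimeSpectrum.comap_surjective_of_faithfullyFlat (A := B) (B := C) ⟨pB, hpB⟩
  have hP0' : P0.asIdeal.comap (algebraMap B C) = pB := congrArg PrimeSpectrum.asIdeal hP0
  obtain ⟨P, hP, hPP0⟩ := Ideal.exists_minimalPrimes_le (I := pB.map (algebraMap B C)) (J := P0.asIdeal)
    (Ideal.map_le_iff_le_comap.2 hP0'.ge)
  haveI : P.IsPrime := hP.1.1
  have hPc : P.comap (algebraMap B C) = pB :=
    le_antisymm ((Ideal.comap_mono hPP0).trans_eq hP0') (Ideal.map_le_iff_le_comap.1 hP.1.2)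
  haveI : P.LiesOver pB := ⟨hPc.symm⟩
  have hIC : I.map (algebraMap A C) = J.map (algebraMap B C) := by
    rw [Ideal.map_map, ← IsScalarTower.algebraMap_eq]
  have h1 := H ⟨P, inferInstance⟩ (fun hle => hp ?_) (fun q' hq' hIq' => ?_)
  rotate_left
  · rw [hIC, Ideal.map_le_iff_le_comap, hPc, Ideal.map_le_iff_le_comap, hcomap] at hle
    exact hle
  · set m := q'.asIdeal.comap (algebraMap B C) with hm
    haveI : m.IsPrime := Ideal.IsPrime.comap _
    have hq0m : q0 ≤ m.comap (algebraMap A B) := by
      refine hq0.2 ⟨Ideal.IsPrime.comap _, sup_le ?_ ?_⟩ ?_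
      · rw [← hcomap, ← hPc]; exact Ideal.comap_mono (Ideal.comap_mono hq')
      · rw [← Ideal.map_le_iff_le_comap, ← Ideal.map_le_iff_le_comap, ← hIC]; exact hIq'
      · exact (Ideal.comap_mono (le_maximalIdeal (Ideal.IsPrime.ne_top ‹_›))).trans_eq
          (IsLocalization.AtPrime.under_maximalIdeal B q0)
    have hmm : maximalIdeal B ≤ m := by
      rw [← IsLocalization.AtPrime.map_eq_maximalIdeal q0 B]
      exact Ideal.map_le_iff_le_comap.2 hq0m
    have hmax : maximalIdeal C ≤ q'.asIdeal := by
      rw [RegLocal.maximalIdeal_completion B J hJ]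
      exact Ideal.map_le_iff_le_comap.2 hmm
    rw [← (maximalIdeal.isMaximal C).eq_of_le q'.2.ne_top hmax]
    exact maximalIdeal.isMaximal C
  obtain ⟨g, hg⟩ := isBaseChange_completion J (LocalizedModule q0.primeCompl M)
  rw [depth_localized_baseChange_of_minimal hg pB P hP,
    depth_localized_baseChange_of_minimal (IsLocalizedModule.isBaseChange q0.primeCompl B
      (LocalizedModule.mkLinearMap q0.primeCompl M)) p.asIdeal pB (by
        show pB ∈ pB.minimalPrimes
        rw [Ideal.minimalPrimes_eq_subsingleton_self]; rfl)] at h1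
  exact h1

end Groth.Agent.BootLib
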