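import Groth.Agent.BootLib.Boot
import Groth.Agent.DualCxLib.Local
import Groth.Agent.DualCxLib.FlatDual
import Groth.Agent.AssSupLib.Support
import Groth.Agent.S1779
import Groth.Agent.S0328
import Groth.Agent.S0379

/-!
# Depth at the distinguished primes of a completion
-/

set_option autoImplicit false
set_option linter.style.haveILetI false
set_option backward.isDefEq.respectTransparency false

universe u

open CategoryTheory IsLocalRing TensorProduct
attribute [local instance] HasDerivedCategory.standard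

noncomputable section

namespace Groth.Agent.BootLib

open DualCxLib DRingLib

variable {B C : Type u} [CommRing B] [CommRing C] [IsNoetherianRing B] [IsNoetherianRing C] [Algebra B C]
  [Module.Flat B C] [DRing.HasLBaseChange (algebraMap B C)] {ω : Dual.D B} (hω : Dual.IsDualizing B ω)
  (hωC : Dual.IsDualizing C ((bcD B C).obj ω))

/-- Along a flat map carrying the dualizing complex, `dimension function − depth` is preserved. -/
theorem dfn_sub_depth_eq (M : Type u) [AddCommGroup M] [Module B M] [Module.Finite B M] (p : PrimeSpectrum B)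
    (P : PrimeSpectrum C) (hP : PrimeSpectrum.comap (algebraMap B C) P = p) (D E : ℕ)
    (hD : LocCoh.depth (Localization.AtPrime p.asIdeal) (LocalizedModule p.asIdeal.primeCompl M) = D)
    (hE : LocCoh.depth (Localization.AtPrime P.asIdeal) (LocalizedModule P.asIdeal.primeCompl (C ⊗[B] M)) = E) :
    dfn hωC P - (E : ℤ) = dfn hω p - (D : ℤ) := by
  let S := model hω
  haveI := S.isGE
  obtain ⟨h1, h2⟩ := depth_bounds hω p D M hD
  obtain ⟨h3, h4⟩ := depth_bounds hωC P E (C ⊗[B] M) hE
  have key : ∀ i : ℤ, ¬ ZeroAt p.asIdeal (HK ω i M) ↔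
      ¬ ZeroAt P.asIdeal (HK ((bcD B C).obj ω) i (C ⊗[B] M)) := fun i => by
    obtain ⟨e⟩ := nonempty_HK_bcD B C ω S.a M i
    haveI : Module.Finite B (HK ω i M) := finite_HK' hω i M
    obtain ⟨n, f, hf⟩ := Module.Finite.exists_fin' B (HK ω i M)
    let η := (f.quotKerEquivOfSurjective hf).symm
    rw [← zeroAt_congr e, zeroAt_congr η, zeroAt_congr (LinearEquiv.baseChange B C _ _ η),
      not_zeroAt_iff_mem_support, not_zeroAt_iff_mem_support, AssSupLib.support_baseChange,
      ← hP, Module.mem_support_iff_of_finite]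
    exact Ideal.map_le_iff_le_comap.symm
  have := h1 _ ((key _).2 h4)
  have := h3 _ ((key _).1 h2)
  omega

theorem dfn_eq_of_minimal (p : PrimeSpectrum B) (P : PrimeSpectrum C)
    (hP : P.asIdeal ∈ (p.asIdeal.map (algebraMap B C)).minimalPrimes)
    (hc : PrimeSpectrum.comap (algebraMap B C) P = p) : dfn hωC P = dfn hω p := by
  let M := B ⧸ p.asIdeal
  have hp : p ∈ Module.support B M := by
    rw [Module.mem_support_iff_of_finite, Ideal.annihilator_quotient]
  obtain ⟨D, hD⟩ := exists_depth_localized p hp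
  haveI : P.asIdeal.LiesOver p.asIdeal := ⟨(congrArg PrimeSpectrum.asIdeal hc).symm⟩
  have hE := (depth_localized_baseChange_of_minimal (TensorProduct.isBaseChange B M C) p.asIdeal P.asIdeal hP).trans hD
  have := dfn_sub_depth_eq hω hωC M p P hc D D hD hE
  omega

/-- Depth at a prime of a local flat extension lying `at most d` below the closed point. -/
theorem depth_gt_of_dim [IsLocalRing B] [IsLocalRing C] (hm : (maximalIdeal B).map (algebraMap B C) = maximalIdeal C)
    (hω : Dual.IsDualizing B ω) (hωC : Dual.IsDualizing C ((bcD B C).obj ω))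
    (M : Type u) [AddCommGroup M] [Module B M] [Module.Finite B M] (p : PrimeSpectrum B) (P : PrimeSpectrum C)
    (hP : PrimeSpectrum.comap (algebraMap B C) P = p) (s d : ℕ) (hd : ringKrullDim (C ⧸ P.asIdeal) ≤ d)
    (h : (s : ℕ∞) < LocCoh.depth (Localization.AtPrime p.asIdeal) (LocalizedModule p.asIdeal.primeCompl M) ∨
      (((d + s : ℕ) : ℕ∞) : WithBot ℕ∞) < ((LocCoh.depth (Localization.AtPrime p.asIdeal)
        (LocalizedModule p.asIdeal.primeCompl M) : ℕ∞) : WithBot ℕ∞) + ringKrullDim (B ⧸ p.asIdeal)) :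
    (s : ℕ∞) < LocCoh.depth (Localization.AtPrime P.asIdeal) (LocalizedModule P.asIdeal.primeCompl (C ⊗[B] M)) := by
  haveI : P.asIdeal.LiesOver p.asIdeal := ⟨(congrArg PrimeSpectrum.asIdeal hP).symm⟩
  have hge := depth_localized_baseChange (TensorProduct.isBaseChange B M C) p.asIdeal P.asIdeal
  rcases h with h | h
  · exact h.trans_le (le_self_add.trans_eq hge.symm)
  cases hE : LocCoh.depth (Localization.AtPrime P.asIdeal) (LocalizedModule P.asIdeal.primeCompl (C ⊗[B] M)) with
  | top => exact ENat.natCast_lt_top s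
  | coe E =>
  cases hD : LocCoh.depth (Localization.AtPrime p.asIdeal) (LocalizedModule p.asIdeal.primeCompl M) with
  | top =>
    rw [hD, top_add, hE] at hge
    exact absurd hge (ENat.natCast_ne_top E)
  | coe D =>
  have key := dfn_sub_depth_eq hω hωC M p P hP D E hD hE
  have hmax : dfn hωC (closedPoint C) = dfn hω (closedPoint B) :=
    dfn_eq_of_minimal hω hωC (closedPoint B) (closedPoint C)
      (by rw [show (closedPoint B).asIdeal = maximalIdeal B from rfl, hm,
            Ideal.minimalPrimes_eq_subsingleton_self]; rfl)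
      (PrimeSpectrum.ext (eq_maximalIdeal_of_map hm))
  have hB : ringKrullDim (B ⧸ p.asIdeal) ≤ (((dfn hω (closedPoint B) - dfn hω p).toNat : ℕ) : WithBot ℕ∞) := by
    rw [← Module.supportDim_quotient_eq_ringKrullDim, ← supportDim_localized_maximal]
    refine supportDim_localized_le hω (closedPoint B) _ fun Q hQ _ => ?_
    have hpQ : p ≤ Q := by
      have := Module.annihilator_le_of_mem_support hQ
      rwa [Ideal.annihilator_quotient] at this
    have := dfn_le hω hpQ
    have := dfn_le hω (show p ≤ closedPoint B from le_maximalIdeal p.2.ne_top)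
    omega
  have hC : (((dfn hωC (closedPoint C) - dfn hωC P).toNat : ℕ) : WithBot ℕ∞) ≤ (d : WithBot ℕ∞) := by
    refine le_trans ?_ hd
    rw [← Module.supportDim_quotient_eq_ringKrullDim, ← supportDim_localized_maximal]
    exact le_supportDim_localized hωC (closedPoint C) P
      (by rw [Module.mem_support_iff_of_finite, Ideal.annihilator_quotient]) (le_maximalIdeal P.2.ne_top)
  have hC' : (dfn hωC (closedPoint C) - dfn hωC P).toNat ≤ d := by exact_mod_cast hC
  rw [hD] at h
  have h' := h.trans_le (add_le_add_right hB _)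
  have h'' : d + s < D + (dfn hω (closedPoint B) - dfn hω p).toNat := by exact_mod_cast h'
  have h1 := dfn_le hω (show p ≤ closedPoint B from le_maximalIdeal p.2.ne_top)
  have h2 := dfn_le hωC (show P ≤ closedPoint C from le_maximalIdeal P.2.ne_top)
  exact_mod_cast (by omega : s < E)
where
  eq_maximalIdeal_of_map {B C : Type u} [CommRing B] [CommRing C] [IsLocalRing B] [IsLocalRing C] [Algebra B C]
      (hm : (maximalIdeal B).map (algebraMap B C) = maximalIdeal C) :
      (maximalIdeal C).comap (algebraMap B C) = maximalIdeal B :=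
    ((maximalIdeal.isMaximal B).eq_of_le (Ideal.comap_ne_top _ (maximalIdeal.isMaximal C).ne_top)
      (Ideal.map_le_iff_le_comap.1 hm.le)).symm

end Groth.Agent.BootLib

namespace Groth.Agent.BootLib

open DualCxLib DRingLib

theorem ringKrullDim_quotient_le_of_cdLE {C : Type u} [CommRing C] [IsLocalRing C] [IsNoetherianRing C] (I : Ideal C)
    (hI : I ≠ ⊤) (d : ℕ) (hcd : LocCoh.CdLE C I d) (P : Ideal C) [P.IsPrime]
    (hmax : ∀ q : PrimeSpectrum C, P ≤ q.asIdeal → I ≤ q.asIdeal → q.asIdeal.IsMaximal) :
    ringKrullDim (C ⧸ P) ≤ d := by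
  haveI : Nontrivial (C ⧸ P) := Ideal.Quotient.nontrivial_iff.mpr Ideal.IsPrime.ne_top'
  haveI : IsLocalRing (C ⧸ P) := IsLocalRing.of_surjective' _ Ideal.Quotient.mk_surjective
  obtain ⟨δ, hδ⟩ := RegLocal.exists_nat_ringKrullDim (C ⧸ P)
  rw [hδ]
  by_contra hc
  have hdδ : d < δ := by
    by_contra h
    exact hc (by exact_mod_cast not_lt.1 h)
  have hrad : (P ⊔ I).radical = maximalIdeal C := by
    refine le_antisymm ?_ ?_
    · exact (Ideal.radical_mono (sup_le (le_maximalIdeal Ideal.IsPrime.ne_top') (le_maximalIdeal hI))).trans_eq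
        (maximalIdeal.isMaximal C).isPrime.radical
    · rw [Ideal.radical_eq_sInf]
      refine le_sInf fun Q ⟨hQ, hQp⟩ => ?_
      exact (eq_maximalIdeal (hmax ⟨Q, hQp⟩ (le_sup_left.trans hQ) (le_sup_right.trans hQ))).ge
  exact S0328.result C I hI P hrad δ hδ (by omega) fun M _ _ i hi => hcd M i (by omega)

theorem bootstrap_completion {A : Type u} [CommRing A] [IsNoetherianRing A]
    (hdc : ∃ ω : Dual.D A, Dual.IsDualizing A ω) (I : Ideal A) (d : ℕ) (hcd : LocCoh.CdLE A I d) (M : Type u)
    [AddCommGroup M] [Module A M] [Module.Finite A M] (s : ℕ) (q : PrimeSpectrum A) (hIq : I ≤ q.asIdeal)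
    (hc : ∀ p : PrimeSpectrum A, p ≤ q → ¬ I ≤ p.asIdeal → (s : ℕ∞) < LocCoh.depth (Localization.AtPrime p.asIdeal) (LocalizedModule p.asIdeal.primeCompl M) ∨ (((d + s : ℕ) : ℕ∞) : WithBot ℕ∞) < ((LocCoh.depth (Localization.AtPrime p.asIdeal) (LocalizedModule p.asIdeal.primeCompl M) : ℕ∞) : WithBot ℕ∞) + Formal2.dimBetween A p.asIdeal q.asIdeal)
    (p' : PrimeSpectrum (AdicCompletion (I.map (algebraMap A (Localization.AtPrime q.asIdeal))) (Localization.AtPrime q.asIdeal)))
    (hp' : ¬ (I.map (algebraMap A (AdicCompletion (I.map (algebraMap A (Localization.AtPrime q.asIdeal))) (Localization.AtPrime q.asIdeal)))) ≤ p'.asIdeal)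
    (hmax : ∀ q' : PrimeSpectrum (AdicCompletion (I.map (algebraMap A (Localization.AtPrime q.asIdeal))) (Localization.AtPrime q.asIdeal)), p' ≤ q' → (I.map (algebraMap A (AdicCompletion (I.map (algebraMap A (Localization.AtPrime q.asIdeal))) (Localization.AtPrime q.asIdeal)))) ≤ q'.asIdeal → q'.asIdeal.IsMaximal) :
    (s : ℕ∞) < LocCoh.depth (Localization.AtPrime p'.asIdeal) (LocalizedModule p'.asIdeal.primeCompl (AdicCompletion (I.map (algebraMap A (Localization.AtPrime q.asIdeal))) (LocalizedModule q.asIdeal.primeCompl M))) := by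
  obtain ⟨ω, hω⟩ := hdc
  let B := Localization.AtPrime q.asIdeal
  let J := I.map (algebraMap A B)
  haveI : IsNoetherianRing B := IsLocalization.isNoetherianRing q.asIdeal.primeCompl _ inferInstance
  have hJ : J ≠ ⊤ := fun h => (maximalIdeal.isMaximal B).ne_top (top_le_iff.1 (h.ge.trans (by
    rw [Ideal.map_le_iff_le_comap]
    exact hIq.trans_eq (IsLocalization.AtPrime.under_maximalIdeal B q.asIdeal).symm)))
  let C := AdicCompletion J B
  haveI := RegLocal.isLocalRing_completion B J hJ
  haveI : Module.FaithfullyFlat B C := RegLocal.faithfullyFlat_completion B J hJ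
  haveI : IsNoetherianRing C := RegLocal.isNoetherianRing_adicCompletion J J.fg_of_isNoetherianRing
  haveI : DRing.HasLBaseChange (algebraMap A B) := DRingLib.hasLBaseChange _
  haveI : DRing.HasLBaseChange (algebraMap B C) := DRingLib.hasLBaseChange _
  have hB := isDualizing_lbc q.asIdeal.primeCompl B hω
  have hC : Dual.IsDualizing C ((bcD B C).obj _) := S1779.result B J _ hB
  let pB : PrimeSpectrum B := PrimeSpectrum.comap (algebraMap B C) p'
  let p : PrimeSpectrum A := PrimeSpectrum.comap (algebraMap A B) pB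
  have hmap : p.asIdeal.map (algebraMap A B) = pB.asIdeal := IsLocalization.map_under q.asIdeal.primeCompl B pB.asIdeal
  have hpq : p ≤ q := (Ideal.comap_mono (le_maximalIdeal pB.2.ne_top)).trans_eq
    (IsLocalization.AtPrime.under_maximalIdeal B q.asIdeal)
  have hIC : I.map (algebraMap A C) = J.map (algebraMap B C) := by
    rw [Ideal.map_map, ← IsScalarTower.algebraMap_eq]
  have hpI : ¬ I ≤ p.asIdeal := fun h => hp' (by
    rw [hIC, Ideal.map_le_iff_le_comap, Ideal.map_le_iff_le_comap]
    exact h)
  have hcdC : LocCoh.CdLE C (I.map (algebraMap A C)) d := (S0379.result A C I d).1 hcd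
  have hICne : I.map (algebraMap A C) ≠ ⊤ := fun h => (maximalIdeal.isMaximal C).ne_top (top_le_iff.1 (h.ge.trans (by
    rw [hIC, RegLocal.maximalIdeal_completion B J hJ]
    exact Ideal.map_mono (le_maximalIdeal hJ))))
  have hd := ringKrullDim_quotient_le_of_cdLE _ hICne d hcdC p'.asIdeal fun q' h1 h2 => hmax q' h1 h2
  haveI : pB.asIdeal.LiesOver p.asIdeal := ⟨rfl⟩
  have hMp : LocCoh.depth (Localization.AtPrime pB.asIdeal)
      (LocalizedModule pB.asIdeal.primeCompl (LocalizedModule q.asIdeal.primeCompl M)) =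
      LocCoh.depth (Localization.AtPrime p.asIdeal) (LocalizedModule p.asIdeal.primeCompl M) :=
    depth_localized_baseChange_of_minimal (IsLocalizedModule.isBaseChange q.asIdeal.primeCompl B
      (LocalizedModule.mkLinearMap q.asIdeal.primeCompl M)) p.asIdeal pB.asIdeal (by
        rw [hmap, Ideal.minimalPrimes_eq_subsingleton_self]; rfl)
  have h := depth_gt_of_dim (RegLocal.maximalIdeal_completion B J hJ).symm hB hC
    (LocalizedModule q.asIdeal.primeCompl M) pB p' rfl s d hd (by
      rw [hMp, ← hmap]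
      exact hc p hpq hpI)
  haveI : p'.asIdeal.LiesOver pB.asIdeal := ⟨rfl⟩
  obtain ⟨g, hg⟩ := isBaseChange_completion J (LocalizedModule q.asIdeal.primeCompl M)
  rw [depth_localized_baseChange hg pB.asIdeal p'.asIdeal]
  rw [depth_localized_baseChange (TensorProduct.isBaseChange B (LocalizedModule q.asIdeal.primeCompl M) C)
    pB.asIdeal p'.asIdeal] at h
  exact h

end Groth.Agent.BootLib
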