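import Groth.Agent.BootLib.Completion
import Groth.Agent.SectionComplLib.Basic

/-!
# The standing conditions pass to the completion
-/

set_option autoImplicit false
set_option linter.style.haveILetI false
set_option backward.isDefEq.respectTransparency false

universe u

open CategoryTheory IsLocalRing TensorProduct
attribute [local instance] HasDerivedCategory.standard

noncomputable section

namespace Groth.Agent.BootLib

open DualCxLib DRingLib

variable {A : Type u} [CommRing A] [IsNoetherianRing A]

theorem exists_sub_mem_pow (I : Ideal A) (n : ℕ) (c : AdicCompletion I A) :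
    ∃ a : A, c - algebraMap A _ a ∈ (I ^ n).map (algebraMap A (AdicCompletion I A)) := by
  have fg := I.fg_of_isNoetherianRing
  have h1 : ∀ b : AdicCompletion I A, ∃ a : A, b - algebraMap A _ a ∈ I.map (algebraMap A (AdicCompletion I A)) :=
    fun b => by
      obtain ⟨a, ha⟩ := Ideal.Quotient.mk_surjective ((AdicCompletion.evalOneₐ I) b)
      refine ⟨a, ?_⟩
      rw [← AdicCompletion.ker_evalOneₐ_eq_map I fg, RingHom.mem_ker, map_sub, sub_eq_zero]
      exact ha.symm.trans ((AdicCompletion.evalOneₐ I).commutes a).symm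
  induction n generalizing c with
  | zero => exact ⟨0, by rw [pow_zero, Ideal.one_eq_top, Ideal.map_top]; trivial⟩
  | succ n ih =>
    obtain ⟨a, ha⟩ := ih c
    have h2 : ∀ j ∈ (I ^ n).map (algebraMap A (AdicCompletion I A)), ∃ a' : A,
        j - algebraMap A _ a' ∈ (I ^ (n + 1)).map (algebraMap A (AdicCompletion I A)) := by
      intro j hj
      refine Submodule.span_induction ?_ ⟨0, by rw [map_zero, sub_zero]; exact zero_mem _⟩ ?_ ?_ hj
      · rintro _ ⟨x, -, rfl⟩
        exact ⟨x, by rw [sub_self]; exact zero_mem _⟩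
      · rintro x y - - ⟨u, hu⟩ ⟨v, hv⟩
        exact ⟨u + v, by rw [map_add, add_sub_add_comm]; exact add_mem hu hv⟩
      · rintro r x hx ⟨u, hu⟩
        obtain ⟨w, hw⟩ := h1 r
        refine ⟨w * u, ?_⟩
        have hx' : x ∈ (I ^ n).map (algebraMap A (AdicCompletion I A)) := hx
        have : r • x - algebraMap A _ (w * u) =
            (r - algebraMap A _ w) * x + algebraMap A _ w * (x - algebraMap A _ u) := by
          rw [smul_eq_mul, map_mul]; ring
        rw [this, pow_succ, Ideal.map_mul]
        refine add_mem ?_ (Ideal.mul_mem_left _ _ ?_)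
        · exact mul_comm x (r - _) ▸ Ideal.mul_mem_mul hx' hw
        · rw [← Ideal.map_mul, ← pow_succ]; exact hu
    obtain ⟨a', ha'⟩ := h2 _ ha
    exact ⟨a + a', by rw [map_add, ← sub_sub]; exact ha'⟩

theorem map_eq_of_map_le (I : Ideal A) (q : PrimeSpectrum (AdicCompletion I A))
    (hIq : I.map (algebraMap A (AdicCompletion I A)) ≤ q.asIdeal) :
    (q.asIdeal.comap (algebraMap A (AdicCompletion I A))).map (algebraMap A (AdicCompletion I A)) = q.asIdeal := by
  refine le_antisymm Ideal.map_comap_le fun c hc => ?_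
  obtain ⟨a, ha⟩ := exists_sub_mem_pow I 1 c
  rw [pow_one] at ha
  have h : algebraMap A _ a ∈ q.asIdeal := by simpa using q.asIdeal.sub_mem hc (hIq ha)
  rw [show c = (c - algebraMap A _ a) + algebraMap A _ a by ring]
  exact add_mem (Ideal.map_mono (Ideal.map_le_iff_le_comap.1 hIq) ha) (Ideal.mem_map_of_mem _ h)

omit [IsNoetherianRing A] in
theorem supportDim_localized_quotient (p : Ideal A) (q : PrimeSpectrum A) :
    Module.supportDim (Localization.AtPrime q.asIdeal) (LocalizedModule q.asIdeal.primeCompl (A ⧸ p)) =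
      Formal2.dimBetween A p q.asIdeal := by
  rw [Formal2.dimBetween, ← Module.supportDim_quotient_eq_ringKrullDim]
  exact Module.supportDim_eq_of_equiv ((LocalizedModule.equivTensorProduct q.asIdeal.primeCompl (A ⧸ p)).trans
    (quotMapEquiv A (Localization.AtPrime q.asIdeal) p))

theorem dimBetween_eq {ω : Dual.D A} (hω : Dual.IsDualizing A ω) {p q : PrimeSpectrum A} (hpq : p ≤ q) :
    Formal2.dimBetween A p.asIdeal q.asIdeal = (((dfn hω q - dfn hω p).toNat : ℕ) : WithBot ℕ∞) := by
  rw [← supportDim_localized_quotient]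
  refine le_antisymm (supportDim_localized_le hω q _ fun Q hQ hQq => ?_)
    (le_supportDim_localized hω q p (by rw [Module.mem_support_iff_of_finite, Ideal.annihilator_quotient]) hpq)
  have hpQ : p ≤ Q := by
    have := Module.annihilator_le_of_mem_support hQ
    rwa [Ideal.annihilator_quotient] at this
  have := dfn_le hω hpQ
  have := dfn_le hω hpq
  omega

theorem conditions_completion (I : Ideal A) (d : ℕ) (M : Type u) [AddCommGroup M] [Module A M] [Module.Finite A M]
    {ω : Dual.D A} (hω : Dual.IsDualizing A ω) (s : ℕ)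
    (p q : PrimeSpectrum (AdicCompletion I A)) (hpq : p ≤ q) (hIq : I.map (algebraMap A (AdicCompletion I A)) ≤ q.asIdeal)
    (h : (s : ℕ∞) ≤ LocCoh.depth (Localization.AtPrime (p.asIdeal.comap (algebraMap A (AdicCompletion I A)))) (LocalizedModule (p.asIdeal.comap (algebraMap A (AdicCompletion I A))).primeCompl M) ∨ ((d + s : ℕ) : WithBot ℕ∞) < (LocCoh.depth (Localization.AtPrime (p.asIdeal.comap (algebraMap A (AdicCompletion I A)))) (LocalizedModule (p.asIdeal.comap (algebraMap A (AdicCompletion I A))).primeCompl M) : WithBot ℕ∞) + Formal2.dimBetween A (p.asIdeal.comap (algebraMap A (AdicCompletion I A))) (q.asIdeal.comap (algebraMap A (AdicCompletion I A)))) :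
    (s : ℕ∞) ≤ LocCoh.depth (Localization.AtPrime p.asIdeal) (LocalizedModule p.asIdeal.primeCompl (AdicCompletion I M)) ∨ ((d + s : ℕ) : WithBot ℕ∞) < (LocCoh.depth (Localization.AtPrime p.asIdeal) (LocalizedModule p.asIdeal.primeCompl (AdicCompletion I M)) : WithBot ℕ∞) + Formal2.dimBetween (AdicCompletion I A) p.asIdeal q.asIdeal := by
  let C := AdicCompletion I A
  haveI : IsNoetherianRing C := RegLocal.isNoetherianRing_adicCompletion I I.fg_of_isNoetherianRing
  haveI : Module.Flat A C := AdicCompletion.flat_of_isNoetherian I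
  haveI : DRing.HasLBaseChange (algebraMap A C) := DRingLib.hasLBaseChange _
  have hC : Dual.IsDualizing C ((bcD A C).obj ω) := S1779.result A I ω hω
  let p0 : PrimeSpectrum A := PrimeSpectrum.comap (algebraMap A C) p
  let q0 : PrimeSpectrum A := PrimeSpectrum.comap (algebraMap A C) q
  haveI : p.asIdeal.LiesOver p0.asIdeal := ⟨rfl⟩
  obtain ⟨g, hg⟩ := isBaseChange_completion I M
  have hge : LocCoh.depth (Localization.AtPrime p0.asIdeal) (LocalizedModule p0.asIdeal.primeCompl M) ≤
      LocCoh.depth (Localization.AtPrime p.asIdeal) (LocalizedModule p.asIdeal.primeCompl (AdicCompletion I M)) :=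
    le_self_add.trans_eq (depth_localized_baseChange hg p0.asIdeal p.asIdeal).symm
  rcases h with h | h
  · exact Or.inl (h.trans hge)
  have hN : LocCoh.depth (Localization.AtPrime p.asIdeal) (LocalizedModule p.asIdeal.primeCompl (C ⊗[A] M)) =
      LocCoh.depth (Localization.AtPrime p.asIdeal) (LocalizedModule p.asIdeal.primeCompl (AdicCompletion I M)) := by
    rw [depth_localized_baseChange (TensorProduct.isBaseChange A M C) p0.asIdeal p.asIdeal,
      depth_localized_baseChange hg p0.asIdeal p.asIdeal]
  cases hE : LocCoh.depth (Localization.AtPrime p.asIdeal) (LocalizedModule p.asIdeal.primeCompl (AdicCompletion I M)) with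
  | top => exact Or.inl le_top
  | coe E =>
  cases hD : LocCoh.depth (Localization.AtPrime p0.asIdeal) (LocalizedModule p0.asIdeal.primeCompl M) with
  | top =>
    rw [hD, hE] at hge
    exact absurd (top_le_iff.1 hge) (ENat.natCast_ne_top E)
  | coe D =>
  have key := dfn_sub_depth_eq hω hC M p0 p rfl D E hD (hN.trans hE)
  have hq0 : q0.asIdeal.map (algebraMap A C) = q.asIdeal := map_eq_of_map_le I q hIq
  have hmax : dfn hC q = dfn hω q0 := dfn_eq_of_minimal hω hC q0 q
    (by rw [hq0, Ideal.minimalPrimes_eq_subsingleton_self]; rfl) rfl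
  have hpq0 : p0 ≤ q0 := Ideal.comap_mono hpq
  refine Or.inr ?_
  have hd := dimBetween_eq hω hpq0
  rw [dimBetween_eq hC hpq]
  change _ < ((LocCoh.depth (Localization.AtPrime p0.asIdeal) (LocalizedModule p0.asIdeal.primeCompl M) : ℕ∞) :
    WithBot ℕ∞) + Formal2.dimBetween A p0.asIdeal q0.asIdeal at h
  rw [hD, hd] at h
  have h' : d + s < D + (dfn hω q0 - dfn hω p0).toNat := by exact_mod_cast h
  have h1 := dfn_le hω hpq0
  have h2 := dfn_le hC hpq
  exact_mod_cast (by omega : d + s < E + (dfn hC q - dfn hC p).toNat)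

theorem exists_localization_completion_equiv (I : Ideal A) (q : PrimeSpectrum (AdicCompletion I A))
    (hIq : I.map (algebraMap A (AdicCompletion I A)) ≤ q.asIdeal) :
    ∃ e : AdicCompletion (I.map (algebraMap A (Localization.AtPrime (q.asIdeal.comap (algebraMap A (AdicCompletion I A))))))
          (Localization.AtPrime (q.asIdeal.comap (algebraMap A (AdicCompletion I A)))) ≃+*
        AdicCompletion ((I.map (algebraMap A (AdicCompletion I A))).map (algebraMap (AdicCompletion I A) (Localization.AtPrime q.asIdeal)))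
          (Localization.AtPrime q.asIdeal),
      ∀ a : A, e (algebraMap A _ a) = algebraMap A _ a := by
  let C := AdicCompletion I A
  let q0 := q.asIdeal.comap (algebraMap A C)
  let B0 := Localization.AtPrime q0
  let B1 := Localization.AtPrime q.asIdeal
  haveI : q.asIdeal.LiesOver q0 := ⟨rfl⟩
  haveI : IsNoetherianRing C := RegLocal.isNoetherianRing_adicCompletion I I.fg_of_isNoetherianRing
  haveI : Module.Flat A C := AdicCompletion.flat_of_isNoetherian I
  letI : Algebra B0 B1 := Localization.AtPrime.algebraOfLiesOver q0 q.asIdeal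
  haveI : IsLocalHom (algebraMap B0 B1) := Localization.isLocalHom_localRingHom q0 q.asIdeal (algebraMap A C) (Ideal.over_def q.asIdeal q0)
  haveI : Module.FaithfullyFlat B0 B1 := Module.FaithfullyFlat.of_flat_of_isLocalHom
  let J0 := I.map (algebraMap A B0)
  let J1 := (I.map (algebraMap A C)).map (algebraMap C B1)
  have hJ : ∀ n, (J0 ^ n).map (algebraMap B0 B1) = J1 ^ n := fun n => by
    rw [Ideal.map_pow]
    congr 1
    show (I.map (algebraMap A B0)).map (algebraMap B0 B1) = (I.map (algebraMap A C)).map (algebraMap C B1)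
    rw [Ideal.map_map, Ideal.map_map, ← IsScalarTower.algebraMap_eq, ← IsScalarTower.algebraMap_eq]
  obtain ⟨e, he⟩ := SectionComplLib.exists_completionEquiv J0 J1 (algebraMap B0 B1)
    (fun n => Ideal.map_le_iff_le_comap.1 (hJ n).le) fun n => by
    constructor
    · refine Ideal.quotientMap_injective' (le_of_eq ?_)
      rw [← hJ n]
      exact Ideal.comap_map_eq_self_of_faithfullyFlat _
    · intro z
      rcases n with _ | n
      · haveI : Subsingleton (B1 ⧸ J1 ^ 0) := Ideal.Quotient.subsingleton_iff.2 (by rw [pow_zero, Ideal.one_eq_top])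
        exact ⟨0, Subsingleton.elim _ _⟩
      obtain ⟨b, rfl⟩ := Ideal.Quotient.mk_surjective z
      obtain ⟨⟨c, t⟩, hct⟩ := IsLocalization.surj q.asIdeal.primeCompl b
      obtain ⟨a, ha⟩ := exists_sub_mem_pow I (n + 1) c
      obtain ⟨a', ha'⟩ := exists_sub_mem_pow I (n + 1) (t : C)
      have hmem : ∀ x ∈ (I ^ (n + 1)).map (algebraMap A C), algebraMap C B1 x ∈ J1 ^ (n + 1) := fun x hx => by
        have := Ideal.mem_map_of_mem (algebraMap C B1) hx
        rwa [Ideal.map_pow, Ideal.map_pow] at this
      have hle : (I ^ (n + 1)).map (algebraMap A C) ≤ q.asIdeal :=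
        (Ideal.map_mono (Ideal.pow_le_self n.succ_ne_zero)).trans hIq
      have ha'q : a' ∈ q0.primeCompl := fun h => t.2 (by
        have := q.asIdeal.add_mem (hle ha') (show algebraMap A C a' ∈ q.asIdeal from h)
        rwa [sub_add_cancel] at this)
      refine ⟨Ideal.Quotient.mk _ (IsLocalization.mk' B0 a ⟨a', ha'q⟩), ?_⟩
      rw [Ideal.quotientMap_mk, Ideal.Quotient.eq]
      have hu : IsUnit (algebraMap A B1 a') := by
        rw [IsScalarTower.algebraMap_apply A B0 B1]
        exact (IsLocalization.map_units B0 (⟨a', ha'q⟩ : q0.primeCompl)).map _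
      refine (Ideal.unit_mul_mem_iff_mem (J1 ^ (n + 1)) hu).1 ?_
      have h1 : algebraMap A B1 a' * algebraMap B0 B1 (IsLocalization.mk' B0 a ⟨a', ha'q⟩) = algebraMap A B1 a := by
        rw [IsScalarTower.algebraMap_apply A B0 B1 a', ← map_mul, IsScalarTower.algebraMap_apply A B0 B1 a]
        congr 1
        exact IsLocalization.mk'_spec' B0 a ⟨a', ha'q⟩
      have h2 : algebraMap A B1 a' * (algebraMap B0 B1 (IsLocalization.mk' B0 a ⟨a', ha'q⟩) - b) =
          -algebraMap C B1 (c - algebraMap A C a) + b * algebraMap C B1 ((t : C) - algebraMap A C a') := by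
        rw [mul_sub, h1, map_sub, map_sub, ← IsScalarTower.algebraMap_apply, ← IsScalarTower.algebraMap_apply, mul_sub, hct]
        ring
      rw [h2]
      exact add_mem (neg_mem (hmem _ ha)) (Ideal.mul_mem_left _ _ (hmem _ ha'))
  refine ⟨e, fun a => ?_⟩
  rw [IsScalarTower.algebraMap_apply A B0 (AdicCompletion J0 B0), he, ← IsScalarTower.algebraMap_apply A B0 B1,
    ← IsScalarTower.algebraMap_apply]

theorem depth_completion_localization (I : Ideal A) (M : Type u) [AddCommGroup M] [Module A M] [Module.Finite A M]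
    (s : ℕ) (q : PrimeSpectrum (AdicCompletion I A))
    (hIq : I.map (algebraMap A (AdicCompletion I A)) ≤ q.asIdeal) :
    let q0 := q.asIdeal.comap (algebraMap A (AdicCompletion I A))
    (∀ p' : PrimeSpectrum (AdicCompletion (I.map (algebraMap A (Localization.AtPrime q0))) (Localization.AtPrime q0)), ¬ (I.map (algebraMap A (AdicCompletion (I.map (algebraMap A (Localization.AtPrime q0))) (Localization.AtPrime q0)))) ≤ p'.asIdeal → (∀ q' : PrimeSpectrum (AdicCompletion (I.map (algebraMap A (Localization.AtPrime q0))) (Localization.AtPrime q0)), p' ≤ q' → (I.map (algebraMap A (AdicCompletion (I.map (algebraMap A (Localization.AtPrime q0))) (Localization.AtPrime q0)))) ≤ q'.asIdeal → q'.asIdeal.IsMaximal) → (s : ℕ∞) < LocCoh.depth (Localization.AtPrime p'.asIdeal) (LocalizedModule p'.asIdeal.primeCompl (AdicCompletion (I.map (algebraMap A (Localization.AtPrime q0))) (LocalizedModule q0.primeCompl M)))) →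
    ∀ p' : PrimeSpectrum (AdicCompletion ((I.map (algebraMap A (AdicCompletion I A))).map (algebraMap (AdicCompletion I A) (Localization.AtPrime q.asIdeal))) (Localization.AtPrime q.asIdeal)), ¬ ((I.map (algebraMap A (AdicCompletion I A))).map (algebraMap (AdicCompletion I A) (AdicCompletion ((I.map (algebraMap A (AdicCompletion I A))).map (algebraMap (AdicCompletion I A) (Localization.AtPrime q.asIdeal))) (Localization.AtPrime q.asIdeal)))) ≤ p'.asIdeal → (∀ q' : PrimeSpectrum (AdicCompletion ((I.map (algebraMap A (AdicCompletion I A))).map (algebraMap (AdicCompletion I A) (Localization.AtPrime q.asIdeal))) (Localization.AtPrime q.asIdeal)), p' ≤ q' → ((I.map (algebraMap A (AdicCompletion I A))).map (algebraMap (AdicCompletion I A) (AdicCompletion ((I.map (algebraMap A (AdicCompletion I A))).map (algebraMap (AdicCompletion I A) (Localization.AtPrime q.asIdeal))) (Localization.AtPrime q.asIdeal)))) ≤ q'.asIdeal → q'.asIdeal.IsMaximal) → (s : ℕ∞) < LocCoh.depth (Localization.AtPrime p'.asIdeal) (LocalizedModule p'.asIdeal.primeCompl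 (AdicCompletion ((I.map (algebraMap A (AdicCompletion I A))).map (algebraMap (AdicCompletion I A) (Localization.AtPrime q.asIdeal))) (LocalizedModule q.asIdeal.primeCompl (AdicCompletion I M)))) := by
  intro q0 H p1 hp1 hmax
  obtain ⟨e, he⟩ := exists_localization_completion_equiv I q hIq
  let C := AdicCompletion I A
  let B0 := Localization.AtPrime q0
  let B1 := Localization.AtPrime q.asIdeal
  let J0 := I.map (algebraMap A B0)
  let J1 := (I.map (algebraMap A C)).map (algebraMap C B1)
  let C0 := AdicCompletion J0 B0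
  let C1 := AdicCompletion J1 B1
  haveI : IsNoetherianRing C := RegLocal.isNoetherianRing_adicCompletion I I.fg_of_isNoetherianRing
  haveI : IsNoetherianRing B0 := IsLocalization.isNoetherianRing q0.primeCompl _ inferInstance
  haveI : IsNoetherianRing B1 := IsLocalization.isNoetherianRing q.asIdeal.primeCompl _ inferInstance
  haveI : IsNoetherianRing C0 := RegLocal.isNoetherianRing_adicCompletion J0 J0.fg_of_isNoetherianRing
  haveI : IsNoetherianRing C1 := RegLocal.isNoetherianRing_adicCompletion J1 J1.fg_of_isNoetherianRing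
  haveI : Module.Flat A C := AdicCompletion.flat_of_isNoetherian I
  haveI : Module.Flat B0 C0 := AdicCompletion.flat_of_isNoetherian J0
  haveI : Module.Flat A B0 := IsLocalization.flat _ q0.primeCompl
  haveI : Module.Flat C B1 := IsLocalization.flat _ q.asIdeal.primeCompl
  haveI : Module.Flat B1 C1 := AdicCompletion.flat_of_isNoetherian J1
  haveI : Module.Flat A C0 := Module.Flat.trans A B0 C0
  haveI : Module.Flat C C1 := Module.Flat.trans C B1 C1
  haveI : Module.Flat A C1 := Module.Flat.trans A C C1
  letI : Algebra C0 C1 := e.toRingHom.toAlgebra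
  haveI : IsScalarTower A C0 C1 := IsScalarTower.of_algebraMap_eq fun a => (he a).symm
  haveI : Module.Flat C0 C1 := Module.Flat.of_linearEquiv
    (AlgEquiv.ofRingEquiv (f := e) (fun _ => rfl) : C0 ≃ₐ[C0] C1).toLinearEquiv.symm
  let p0 : PrimeSpectrum C0 := PrimeSpectrum.comap (algebraMap C0 C1) p1
  let a : PrimeSpectrum A := PrimeSpectrum.comap (algebraMap A C0) p0
  haveI : p1.asIdeal.LiesOver p0.asIdeal := ⟨rfl⟩
  haveI : p0.asIdeal.LiesOver a.asIdeal := ⟨rfl⟩
  haveI : p1.asIdeal.LiesOver a.asIdeal := Ideal.LiesOver.trans p1.asIdeal p0.asIdeal a.asIdeal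
  have hI : (I.map (algebraMap A C0)).map (algebraMap C0 C1) = (I.map (algebraMap A C)).map (algebraMap C C1) := by
    rw [Ideal.map_map, Ideal.map_map, ← IsScalarTower.algebraMap_eq, ← IsScalarTower.algebraMap_eq]
  have h0 := H p0 (fun hle => hp1 (hI ▸ Ideal.map_le_iff_le_comap.2 hle)) fun q' hq' hIq' => by
    let q1 : PrimeSpectrum C1 := PrimeSpectrum.comap e.symm.toRingHom q'
    have h1 := hmax q1 (fun x hx => hq' (show e (e.symm x) ∈ p1.asIdeal by rwa [e.apply_symm_apply])) (by
      rw [← hI, Ideal.map_le_iff_le_comap]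
      intro x hx
      show e.symm (e x) ∈ q'.asIdeal
      rw [e.symm_apply_apply]
      exact hIq' hx)
    have hq : q'.asIdeal = q1.asIdeal.comap (algebraMap C0 C1) := by
      ext x
      show x ∈ q'.asIdeal ↔ e.symm (e x) ∈ q'.asIdeal
      rw [e.symm_apply_apply]
    rw [hq]
    exact Ideal.comap_isMaximal_of_surjective _ e.surjective
  obtain ⟨g0, hg0⟩ := isBaseChange_completion J0 (LocalizedModule q0.primeCompl M)
  haveI : p0.asIdeal.LiesOver (p0.asIdeal.comap (algebraMap B0 C0)) := ⟨rfl⟩
  haveI : p1.asIdeal.LiesOver (p1.asIdeal.comap (algebraMap B1 C1)) := ⟨rfl⟩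
  rw [depth_localized_baseChange hg0 (p0.asIdeal.comap (algebraMap B0 C0)) p0.asIdeal,
    ← depth_localized_baseChange (TensorProduct.isBaseChange B0 (LocalizedModule q0.primeCompl M) C0)
      (p0.asIdeal.comap (algebraMap B0 C0)) p0.asIdeal] at h0
  have hN0 := (IsLocalizedModule.isBaseChange q0.primeCompl B0 (LocalizedModule.mkLinearMap q0.primeCompl M)).comp
    (TensorProduct.isBaseChange B0 (LocalizedModule q0.primeCompl M) C0)
  obtain ⟨g, hg⟩ := isBaseChange_completion I M
  haveI : Module.Finite C (AdicCompletion I M) := Module.Finite.equiv hg.equiv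
  obtain ⟨g1, hg1⟩ := isBaseChange_completion J1 (LocalizedModule q.asIdeal.primeCompl (AdicCompletion I M))
  rw [depth_localized_baseChange hg1 (p1.asIdeal.comap (algebraMap B1 C1)) p1.asIdeal,
    ← depth_localized_baseChange (TensorProduct.isBaseChange B1 (LocalizedModule q.asIdeal.primeCompl (AdicCompletion I M)) C1)
      (p1.asIdeal.comap (algebraMap B1 C1)) p1.asIdeal]
  have hN1 := hg.comp ((IsLocalizedModule.isBaseChange q.asIdeal.primeCompl B1
    (LocalizedModule.mkLinearMap q.asIdeal.primeCompl (AdicCompletion I M))).comp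
      (TensorProduct.isBaseChange B1 (LocalizedModule q.asIdeal.primeCompl (AdicCompletion I M)) C1))
  have hmin : p1.asIdeal ∈ (p0.asIdeal.map (algebraMap C0 C1)).minimalPrimes := by
    rw [show p0.asIdeal.map (algebraMap C0 C1) = p1.asIdeal from Ideal.map_comap_of_surjective _ e.surjective _,
      Ideal.minimalPrimes_eq_subsingleton_self]
    rfl
  rw [depth_localized_baseChange hN1 a.asIdeal p1.asIdeal]
  rw [depth_localized_baseChange hN0 a.asIdeal p0.asIdeal,
    ← depth_localized_baseChange (TensorProduct.isBaseChange A M C0) a.asIdeal p0.asIdeal,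
    ← depth_localized_baseChange_of_minimal (TensorProduct.isBaseChange C0 (C0 ⊗[A] M) C1) p0.asIdeal p1.asIdeal hmin,
    depth_localized_baseChange ((TensorProduct.isBaseChange A M C0).comp (TensorProduct.isBaseChange C0 (C0 ⊗[A] M) C1))
      a.asIdeal p1.asIdeal] at h0
  exact h0

end Groth.Agent.BootLib
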