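import Groth.Agent.S2062
import Groth.Agent.FibreDepth.Local
import Groth.Agent.QGorLib.FlatDepth

/-!
# The depth of a flat base change at a prime
-/

set_option autoImplicit false
set_option linter.style.haveILetI false
set_option backward.isDefEq.respectTransparency false

universe u

open IsLocalRing TensorProduct

noncomputable section

namespace Groth.Agent.BootLib

variable {B C M N : Type u} [CommRing B] [CommRing C] [IsNoetherianRing B] [IsNoetherianRing C] [Algebra B C]
  [Module.Flat B C] [AddCommGroup M] [Module B M] [Module.Finite B M] [AddCommGroup N] [Module B N] [Module C N]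
  [IsScalarTower B C N] {g : M →ₗ[B] N}

/-- Depth of a flat base change at a prime: depth at the image plus depth of the fibre. -/
theorem depth_localized_baseChange (hg : IsBaseChange C g) (p : Ideal B) [p.IsPrime] (P : Ideal C) [P.IsPrime]
    [P.LiesOver p] :
    LocCoh.depth (Localization.AtPrime P) (LocalizedModule P.primeCompl N) =
      LocCoh.depth (Localization.AtPrime p) (LocalizedModule p.primeCompl M) +
        LocCoh.depth (Localization.AtPrime P) (Localization.AtPrime P ⧸ p.map (algebraMap B (Localization.AtPrime P))) := by
  let R := Localization.AtPrime p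
  let S := Localization.AtPrime P
  letI : Algebra R S := Localization.AtPrime.algebraOfLiesOver p P
  haveI : IsLocalHom (algebraMap R S) := Localization.isLocalHom_localRingHom p P (algebraMap B C) (Ideal.over_def P p)
  haveI : IsNoetherianRing R := IsLocalization.isNoetherianRing p.primeCompl _ inferInstance
  haveI : IsNoetherianRing S := IsLocalization.isNoetherianRing P.primeCompl _ inferInstance
  have hP : IsBaseChange S (LocalizedModule.mkLinearMap P.primeCompl N) := IsLocalizedModule.isBaseChange P.primeCompl S _
  have hf : IsBaseChange S (((LocalizedModule.mkLinearMap P.primeCompl N).restrictScalars B).comp g) := hg.comp hP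
  have hp : IsBaseChange R (LocalizedModule.mkLinearMap p.primeCompl M) := IsLocalizedModule.isBaseChange p.primeCompl R _
  rw [Depth.depth_congr hf.equiv.symm,
    Depth.depth_congr (TensorProduct.AlgebraTensorModule.cancelBaseChange B R S S M).symm,
    Depth.depth_congr (R := R) hp.equiv.symm, S2062.result]
  have hmap : p.map (algebraMap B S) = (maximalIdeal R).map (algebraMap R S) := by
    rw [← Localization.AtPrime.map_eq_maximalIdeal, Ideal.map_map, ← IsScalarTower.algebraMap_eq]
  rw [hmap]
  congr 1
  exact Depth.depth_congr (Submodule.quotEquivOfEq _ _ (by rw [smul_eq_mul, Ideal.mul_top]))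

/-- Depth does not change at a prime minimal over the extension of its image. -/
theorem depth_localized_baseChange_of_minimal (hg : IsBaseChange C g) (p : Ideal B) [p.IsPrime] (P : Ideal C)
    [P.IsPrime] [P.LiesOver p] (hP : P ∈ (p.map (algebraMap B C)).minimalPrimes) :
    LocCoh.depth (Localization.AtPrime P) (LocalizedModule P.primeCompl N) =
      LocCoh.depth (Localization.AtPrime p) (LocalizedModule p.primeCompl M) := by
  rw [depth_localized_baseChange hg p P]
  let S := Localization.AtPrime P
  haveI : IsNoetherianRing S := IsLocalization.isNoetherianRing P.primeCompl _ inferInstance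
  set J := p.map (algebraMap B S) with hJ
  have hJ' : J = (p.map (algebraMap B C)).map (algebraMap C S) := by
    rw [hJ, Ideal.map_map, ← IsScalarTower.algebraMap_eq]
  have hrad : J.radical = maximalIdeal S := by
    rw [hJ', IsLocalization.AtPrime.radical_map_of_mem_minimalPrimes S P _ hP,
      IsLocalization.AtPrime.map_eq_maximalIdeal P S]
  have hne : J ≠ ⊤ := fun h => (maximalIdeal.isMaximal S).ne_top (by rw [← hrad, h, Ideal.radical_top])
  haveI : Nontrivial (S ⧸ J) := Ideal.Quotient.nontrivial_iff.2 hne
  obtain ⟨Q, hQ⟩ := associatedPrimes.nonempty S (S ⧸ J)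
  have hQ' : IsAssociatedPrime Q (S ⧸ J) := hQ
  haveI := hQ'.isPrime
  have hJQ : J ≤ Q := fun a ha => hQ'.annihilator_le (Submodule.mem_annihilator.2 fun m _ => by
    induction m using Submodule.Quotient.induction_on with | _ m => ?_
    rw [← Submodule.Quotient.mk_smul, Submodule.Quotient.mk_eq_zero]
    exact J.mul_mem_right m ha)
  have hQm : maximalIdeal S ≤ Q := by
    rw [← hrad]; exact (Ideal.radical_mono hJQ).trans_eq hQ'.isPrime.radical
  obtain ⟨-, x, hx⟩ := isAssociatedPrime_iff.1 hQ'
  have this : LocCoh.depth S (S ⧸ J) = 0 := FlatDepth.depth_eq_zero_iff.2 ⟨x, fun h0 => ?_, fun r hr => ?_⟩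
  rotate_left 1
  · exact hQ'.isPrime.ne_top (by rw [hx, Ideal.eq_top_iff_one, Submodule.mem_colon_singleton, one_smul, h0]; exact zero_mem _)
  · have := hQm hr
    rw [hx, Submodule.mem_colon_singleton, Submodule.mem_bot] at this
    exact this
  rw [this, add_zero]

end Groth.Agent.BootLib
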